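import Groth.Agent.LieBr26.Points
import Mathlib.Algebra.Lie.Basic
import Mathlib.Tactic.Group

/-! The Lie algebra structure on the Lie functor of a group scheme. -/

set_option autoImplicit false
set_option linter.style.haveILetI false
set_option backward.isDefEq.respectTransparency false
set_option backward.isDefEq.respectTransparency.types false

universe u

open CategoryTheory CategoryTheory.Limits AlgebraicGeometry MonoidalCategory CartesianMonoidalCategory MonObj
open scoped commutatorElement

namespace Groth.Agent.LieBr26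

variable {B : Type u} [CommRing B] {S : Scheme.{u}} (f : Spec (CommRingCat.of B) ⟶ S)
variable (G : Over S) [GrpObj G]

section Swap

theorem swapInner_sq : (eB : LieS.D2 B) * eB = 0 := eB_sq

/-- The exchange of `ε` and `ε'`. -/
noncomputable def swap : LieS.D2 B →+* LieS.D2 B :=
  LieS.dualHom (C := LieS.D2 B) (LieS.dualHom (C := LieS.D2 B) (LieS.toD2 B) eB eB_sq) eA eA_sq

theorem swap_comp : (swap (B := B)).comp (LieS.toD2 B) = LieS.toD2 B :=
  RingHom.ext fun b => by simp [swap, LieS.toD2, TrivSqZeroExt.algebraMap_eq_inl']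

theorem swap_eA : swap (eA : LieS.D2 B) = eB := by
  simp [swap, eA, eB, TrivSqZeroExt.algebraMap_eq_inl']

theorem swap_eB : swap (eB : LieS.D2 B) = eA := by
  simp [swap, eA, eB, TrivSqZeroExt.algebraMap_eq_inl']

/-- The symmetric elements. -/
noncomputable abbrev symRing (B : Type u) [CommRing B] : Subring (LieS.D2 B) :=
  RingHom.eqLocus swap (RingHom.id _)

theorem mem_symRing (x : LieS.D2 B) : x ∈ symRing B ↔ x.fst.snd = x.snd.fst := by
  change swap x = x ↔ _
  constructor
  · intro e
    have := congrArg (fun t : LieS.D2 B => t.fst.snd) e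
    simpa [swap, LieS.toD2, eA, eB, TrivSqZeroExt.algebraMap_eq_inl', eq_comm] using this
  · intro e
    refine TrivSqZeroExt.ext (TrivSqZeroExt.ext ?_ ?_) (TrivSqZeroExt.ext ?_ ?_) <;>
      simp [swap, LieS.toD2, eA, eB, TrivSqZeroExt.algebraMap_eq_inl', e]

theorem diag_sq : Sq0 (η₁ + η₂ : TrivSqZeroExt B (B × B)) := by
  show (η₁ + η₂) * (η₁ + η₂) = 0
  simp only [η₁, η₂, mul_add, add_mul, inr_sq, add_zero]

/-- `B[ε] → B ⊕ B²` along the diagonal. -/
noncomputable def diagHom : DualNumber B →+* TrivSqZeroExt B (B × B) :=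
  LieS.dualHom hPair (η₁ + η₂) diag_sq

theorem diagHom_eq (x : DualNumber B) :
    diagHom x = TrivSqZeroExt.inl x.fst + TrivSqZeroExt.inr (x.snd, x.snd) := by
  refine TrivSqZeroExt.ext ?_ (Prod.ext ?_ ?_) <;>
    simp [diagHom, hPair, η₁, η₂, TrivSqZeroExt.algebraMap_eq_inl']

/-- The symmetric elements as a fibre product. -/
noncomputable def symSq :
    KerEval.Sq (symRing B) (DualNumber B) (LieS.D2 B) (TrivSqZeroExt B (B × B)) where
  f := (TrivSqZeroExt.fstHom (DualNumber B) (DualNumber B) (DualNumber B)).toRingHom.comp (symRing B).subtype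
  g := (symRing B).subtype
  q := diagHom
  p := pHom
  surj := pHom_surjective
  comm c := by
    have hc := (mem_symRing c.1).1 c.2
    rw [pHom_eq, diagHom_eq]
    simp [hc]
  exist a b hab := by
    rw [pHom_eq, diagHom_eq] at hab
    have h1 : a.fst = b.fst.fst := by simpa using congrArg TrivSqZeroExt.fst hab
    have h2 : a.snd = b.fst.snd := by simpa using congrArg (fun t => t.snd.1) hab
    have h3 : a.snd = b.snd.fst := by simpa using congrArg (fun t => t.snd.2) hab
    refine ⟨⟨b, (mem_symRing b).2 (h2.symm.trans h3)⟩, ?_, rfl⟩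
    exact TrivSqZeroExt.ext (by simpa using h1.symm) (by simpa using h2.symm)
  ext c c' _ h := Subtype.ext h

theorem invariant_of_diag (g : Spec (CommRingCat.of (LieS.D2 B)) ⟶ G.left)
    (v : Spec (CommRingCat.of (DualNumber B)) ⟶ G.left)
    (h : KerEval.sp (LieS.dualHom hPair (η₁ + η₂) (diag_sq (B := B))) ≫ v = KerEval.sp pHom ≫ g) :
    KerEval.sp (swap (B := B)) ≫ g = g := by
  obtain ⟨m, -, hm⟩ := (symSq (B := B)).exists_hom v g h
  rw [← hm, ← Category.assoc]
  congr 1
  rw [← KerEval.sp_comp]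
  congr 1
  exact RingHom.ext fun c => c.2

theorem cmap_left {C C' : Type u} [CommRing C] [CommRing C'] {h : B →+* C} {h' : B →+* C'} (k : C →+* C')
    (hk : k.comp h = h') : (cmap f k hk).left = KerEval.sp k := rfl

theorem dmap_left {C : Type u} [CommRing C] (h : B →+* C) (c : C) (hc : c * c = 0) :
    (dmap f h c hc).left = KerEval.sp (LieS.dualHom h c hc) := rfl

theorem br_self (X : LieS.Lie G B f) : br f G X X = 1 := by
  have e : cmap f pHom pHom_comp ≫
      (P f G (LieS.toD2 B) eB eB_sq X * P f G (LieS.toD2 B) eA eA_sq X) =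
      P f G hPair (η₁ + η₂) diag_sq X := by
    simp only [MonObj.comp_mul, cmap_P]
    rw [P_congr f G pHom_eB, P_congr f G pHom_eA]
    refine pair_ext f G ?_ ?_
    · simp only [MonObj.comp_mul, cmap_P]
      have h1 : (TrivSqZeroExt.map (LinearMap.fst B B B)).toRingHom η₁ = DualNumber.eps := by simp [η₁]
      have h2 : (TrivSqZeroExt.map (LinearMap.fst B B B)).toRingHom η₂ = 0 := by simp [η₂]
      have h3 : (TrivSqZeroExt.map (LinearMap.fst B B B)).toRingHom (η₁ + η₂) = DualNumber.eps := by
        rw [map_add, h1, h2, add_zero]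
      rw [P_congr f G h2, P_congr f G h1, P_congr f G h3, P_zero, _root_.one_mul]
    · simp only [MonObj.comp_mul, cmap_P]
      have h1 : (TrivSqZeroExt.map (LinearMap.snd B B B)).toRingHom η₁ = 0 := by simp [η₁]
      have h2 : (TrivSqZeroExt.map (LinearMap.snd B B B)).toRingHom η₂ = DualNumber.eps := by simp [η₂]
      have h3 : (TrivSqZeroExt.map (LinearMap.snd B B B)).toRingHom (η₁ + η₂) = DualNumber.eps := by
        rw [map_add, h1, h2, zero_add]
      rw [P_congr f G h2, P_congr f G h1, P_congr f G h3, P_zero, _root_.mul_one]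
  have e' := congrArg CommaMorphism.left e
  rw [P_apply] at e'
  have inv' := invariant_of_diag (B := B) G _ _ e'.symm
  have key : cmap f (swap (B := B)) swap_comp ≫
      (P f G (LieS.toD2 B) eB eB_sq X * P f G (LieS.toD2 B) eA eA_sq X) =
      (P f G (LieS.toD2 B) eB eB_sq X * P f G (LieS.toD2 B) eA eA_sq X) := Over.OverMorphism.ext inv'
  simp only [MonObj.comp_mul, cmap_P] at key
  rw [P_congr f G swap_eA, P_congr f G swap_eB] at key
  refine P_eAB_injective f G ?_
  rw [map_one]
  refine ((exists_bracket f G X X).choose_spec).trans (commutatorElement_eq_one_iff_mul_comm.2 ?_)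
  exact key.symm

end Swap

theorem comm_mul_left {H : Type*} [Group H] (x y z : H) : ⁅x * y, z⁆ = x * ⁅y, z⁆ * x⁻¹ * ⁅x, z⁆ := by
  simp only [commutatorElement_def]
  group

theorem comm_mul_right {H : Type*} [Group H] (x y z : H) : ⁅x, y * z⁆ = ⁅x, y⁆ * y * ⁅x, z⁆ * y⁻¹ := by
  simp only [commutatorElement_def]
  group

section Bilinear

variable {C : Type u} [CommRing C] {h : B →+* C} (c d : C) (hc : c * c = 0) (hd : d * d = 0)

include hd hc in
theorem br_mul_left_of_injective (hinj : Function.Injective (P f G h (c * d) (prod_sq hc)))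
    (X X' Y : LieS.Lie G B f) : br f G (X * X') Y = br f G X Y * br f G X' Y := by
  apply hinj
  rw [map_mul, ← commutator_P f G c d hc hd, map_mul]
  have hx : Commute (P f G h c hc X) (P f G h (c * d) (prod_sq hc) (br f G X' Y)) :=
    commute_P f G c (c * d) hc (prod_sq hc) (by rw [← _root_.mul_assoc, hc, zero_mul]) _ _
  rw [comm_mul_left, commutator_P f G c d hc hd X' Y, commutator_P f G c d hc hd X Y,
    hx.eq, _root_.mul_inv_cancel_right]
  exact (commute_P f G (c * d) (c * d) (prod_sq hc) (prod_sq hc) (prod_sq hc) _ _).eq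

include hd hc in
theorem br_mul_right_of_injective (hinj : Function.Injective (P f G h (c * d) (prod_sq hc)))
    (X Y Y' : LieS.Lie G B f) : br f G X (Y * Y') = br f G X Y * br f G X Y' := by
  apply hinj
  rw [map_mul, ← commutator_P f G c d hc hd, map_mul]
  have hy : Commute (P f G h d hd Y) (P f G h (c * d) (prod_sq hc) (br f G X Y')) :=
    commute_P f G d (c * d) hd (prod_sq hc)
      (by rw [← _root_.mul_assoc, _root_.mul_comm d c, _root_.mul_assoc, hd, mul_zero]) _ _
  rw [comm_mul_right, commutator_P f G c d hc hd X Y, commutator_P f G c d hc hd X Y']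
  rw [_root_.mul_assoc, _root_.mul_assoc, ← _root_.mul_assoc (P f G h d hd Y), hy.eq, _root_.mul_inv_cancel_right]

include hd hc in
theorem br_smul_left_of_injective (hinj : Function.Injective (P f G h (c * d) (prod_sq hc)))
    (b : B) (X Y : LieS.Lie G B f) : br f G (b • X) Y = b • br f G X Y := by
  apply hinj
  rw [← commutator_P f G c d hc hd, P_smul, P_smul, commutator_P f G (h b * c) d (mul_smul_sq _ hc) hd]
  exact P_congr f G (_root_.mul_assoc _ _ _) _ _

include hd hc in
theorem br_smul_right_of_injective (hinj : Function.Injective (P f G h (c * d) (prod_sq hc)))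
    (b : B) (X Y : LieS.Lie G B f) : br f G X (b • Y) = b • br f G X Y := by
  apply hinj
  rw [← commutator_P f G c d hc hd, P_smul, P_smul, commutator_P f G c (h b * d) hc (mul_smul_sq _ hd)]
  exact P_congr f G (_root_.mul_left_comm _ _ _) _ _

end Bilinear

theorem P_eBA_injective :
    Function.Injective (P f G (LieS.toD2 B) (eB * eA) (prod_sq (C := LieS.D2 B) (a := eB) eB_sq)) := by
  intro X Y e
  refine P_eAB_injective f G ?_
  have h := _root_.mul_comm (eB : LieS.D2 B) eA
  rwa [P_congr f G h, P_congr f G h] at e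

theorem br_mul_left (X X' Y : LieS.Lie G B f) : br f G (X * X') Y = br f G X Y * br f G X' Y :=
  br_mul_left_of_injective f G eB eA eB_sq eA_sq (P_eBA_injective f G) X X' Y

theorem br_mul_right (X Y Y' : LieS.Lie G B f) : br f G X (Y * Y') = br f G X Y * br f G X Y' :=
  br_mul_right_of_injective f G eB eA eB_sq eA_sq (P_eBA_injective f G) X Y Y'

theorem br_smul_left (b : B) (X Y : LieS.Lie G B f) : br f G (b • X) Y = b • br f G X Y :=
  br_smul_left_of_injective f G eB eA eB_sq eA_sq (P_eBA_injective f G) b X Y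

theorem br_smul_right (b : B) (X Y : LieS.Lie G B f) : br f G X (b • Y) = b • br f G X Y :=
  br_smul_right_of_injective f G eB eA eB_sq eA_sq (P_eBA_injective f G) b X Y

theorem br_inv_left (X Y : LieS.Lie G B f) : br f G X⁻¹ Y = (br f G X Y)⁻¹ :=
  map_inv (MonoidHom.mk' (fun Z => br f G Z Y) (fun Z Z' => br_mul_left f G Z Z' Y)) X

theorem br_inv_right (X Y : LieS.Lie G B f) : br f G X Y⁻¹ = (br f G X Y)⁻¹ :=
  map_inv (MonoidHom.mk' (fun Z => br f G X Z) (fun Z Z' => br_mul_right f G X Z Z')) Y

theorem br_swap (X Y : LieS.Lie G B f) (hcomm : ∀ U V : LieS.Lie G B f, U * V = V * U) :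
    br f G Y X = (br f G X Y)⁻¹ := by
  have h := br_self f G (X * Y)
  rw [br_mul_left, br_mul_right, br_mul_right, br_self, br_self, _root_.one_mul, _root_.mul_one] at h
  exact eq_inv_of_mul_eq_one_left ((hcomm _ _).trans h)

theorem hallWitt {H : Type*} [Group H] (x y z : H) :
    (y⁻¹ * ⁅⁅x⁻¹, y⁆⁻¹, z⁻¹⁆ * y) * (z⁻¹ * ⁅⁅y⁻¹, z⁆⁻¹, x⁻¹⁆ * z) * (x⁻¹ * ⁅⁅z⁻¹, x⁆⁻¹, y⁻¹⁆ * x) = 1 := by
  simp only [commutatorElement_def]
  group

section Jacobi

variable {C : Type u} [CommRing C] {h : B →+* C}

theorem hallWitt_term (c d e : C) (hc : c * c = 0) (hd : d * d = 0) (he : e * e = 0)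
    (X Y Z : LieS.Lie G B f) :
    (P f G h d hd Y)⁻¹ *
      ⁅⁅(P f G h c hc X)⁻¹, P f G h d hd Y⁆⁻¹, (P f G h e he Z)⁻¹⁆ * P f G h d hd Y =
    P f G h (c * d * e) (prod_sq (prod_sq hc)) (br f G (br f G X Y) Z)⁻¹ := by
  rw [← map_inv (P f G h c hc), commutator_P f G c d hc hd, ← map_inv (P f G h (c * d) _),
    ← map_inv (P f G h e he), commutator_P f G (c * d) e (prod_sq hc) he, br_inv_left f G X, inv_inv,
    br_inv_right]
  have hy := commute_P f G (h := h) d (c * d * e) hd (prod_sq (prod_sq hc))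
    (show d * (c * d * e) = 0 by
      calc d * (c * d * e) = c * (d * d) * e := by ring
        _ = 0 := by rw [hd, mul_zero, zero_mul]) Y (br f G (br f G X Y) Z)⁻¹
  rw [map_inv, _root_.mul_assoc]
  rw [map_inv] at hy
  rw [← hy.eq, _root_.inv_mul_cancel_left]

theorem jacobi_of_injective (e₁ e₂ e₃ : C) (h₁ : e₁ * e₁ = 0) (h₂ : e₂ * e₂ = 0) (h₃ : e₃ * e₃ = 0)
    (hinj : Function.Injective (P f G h (e₁ * e₂ * e₃) (prod_sq (prod_sq h₁)))) (X Y Z : LieS.Lie G B f) :
    (br f G (br f G X Y) Z)⁻¹ * (br f G (br f G Y Z) X)⁻¹ * (br f G (br f G Z X) Y)⁻¹ = 1 := by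
  apply hinj
  rw [map_mul, map_mul, map_one]
  have := hallWitt (P f G h e₁ h₁ X) (P f G h e₂ h₂ Y) (P f G h e₃ h₃ Z)
  rw [hallWitt_term f G e₁ e₂ e₃ h₁ h₂ h₃, hallWitt_term f G e₂ e₃ e₁ h₂ h₃ h₁,
    hallWitt_term f G e₃ e₁ e₂ h₃ h₁ h₂, P_congr f G (show e₂ * e₃ * e₁ = e₁ * e₂ * e₃ by ring),
    P_congr f G (show e₃ * e₁ * e₂ = e₁ * e₂ * e₃ by ring)] at this
  exact this

end Jacobi

section Third

variable {C : Type u} [CommRing C] (h : B →+* C) (a b : C) (ha : a * a = 0) (hb : b * b = 0)

/-- `B → C[ε₃]`. -/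
noncomputable def up : B →+* DualNumber C := (algebraMap C (DualNumber C)).comp h

include ha hb in
theorem jacobi_of_pair (r : C →+* B) (hr : r.comp h = RingHom.id B) (hra : r a = 0)
    (hinj : Function.Injective (LieS.dualHom h (a * b) (prod_sq ha))) (X Y Z : LieS.Lie G B f) :
    (br f G (br f G X Y) Z)⁻¹ * (br f G (br f G Y Z) X)⁻¹ * (br f G (br f G Z X) Y)⁻¹ = 1 := by
  have h₁ : algebraMap C (DualNumber C) a * algebraMap C (DualNumber C) a = 0 := by
    rw [← map_mul, ha, map_zero]
  have h₂ : algebraMap C (DualNumber C) b * algebraMap C (DualNumber C) b = 0 := by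
    rw [← map_mul, hb, map_zero]
  refine jacobi_of_injective f G (h := up h) (algebraMap C (DualNumber C) a) (algebraMap C (DualNumber C) b)
    DualNumber.eps h₁ h₂ (LieS.eps_sq C) ?_ X Y Z
  refine P_injective f G _ _ ?_ (r.comp (TrivSqZeroExt.fstHom C C C).toRingHom) ?_ ?_
  · intro x y hxy
    have e₁ := congrArg (fun w : DualNumber C => w.fst) hxy
    have e₂ := congrArg (fun w : DualNumber C => w.snd) hxy
    simp [up, TrivSqZeroExt.algebraMap_eq_inl'] at e₁ e₂
    have e₁' : x.fst = y.fst := by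
      have := congrArg r e₁
      rwa [← RingHom.comp_apply, ← RingHom.comp_apply, hr] at this
    refine hinj ?_
    rw [LieS.dualHom_apply, LieS.dualHom_apply, e₁', e₂]
  · exact RingHom.ext fun x => by
      simpa [up, TrivSqZeroExt.algebraMap_eq_inl'] using RingHom.congr_fun hr x
  · simp [TrivSqZeroExt.algebraMap_eq_inl', hra]

end Third

theorem jacobi (X Y Z : LieS.Lie G B f) :
    (br f G (br f G X Y) Z)⁻¹ * (br f G (br f G Y Z) X)⁻¹ * (br f G (br f G Z X) Y)⁻¹ = 1 :=
  jacobi_of_pair f G (C := LieS.D2 B) (LieS.toD2 B) eA eB eA_sq eB_sq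
    ((TrivSqZeroExt.fstHom B B B).toRingHom.comp
      (TrivSqZeroExt.fstHom (DualNumber B) (DualNumber B) (DualNumber B)).toRingHom)
    (RingHom.ext fun x => by simp [LieS.toD2, TrivSqZeroExt.algebraMap_eq_inl'])
    (by simp [eA, TrivSqZeroExt.algebraMap_eq_inl'])
    dualHom_eAB_injective X Y Z

theorem lie_comm (U V : LieS.Lie G B f) : U * V = V * U :=
  Subtype.ext (LieSLib.mul_comm_of_zeroSec f G U.2 V.2)

/-- Lie(G/S)(T), additively. -/
def LieL : Type u := Additive (LieS.Lie G B f)

noncomputable instance : AddGroup (LieL f G) := inferInstanceAs (AddGroup (Additive _))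

noncomputable instance : AddCommGroup (LieL f G) :=
  { (inferInstance : AddGroup (LieL f G)) with
    add_comm := fun U V => congrArg Additive.ofMul (lie_comm f G (Additive.toMul U) (Additive.toMul V)) }

variable {f G} in
/-- The identification. -/
def LieL.mk (X : LieS.Lie G B f) : LieL f G := Additive.ofMul X

variable {f G} in
/-- The identification. -/
def LieL.val (x : LieL f G) : LieS.Lie G B f := Additive.toMul x

theorem LieL.ext' {x y : LieL f G} (h : x.val = y.val) : x = y := Additive.toMul.injective h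

noncomputable instance : Module B (LieL f G) where
  smul b x := LieL.mk (b • x.val)
  one_smul x := LieL.ext' f G (Subtype.ext (by
    show LieS.scale B f 1 ≫ x.val.1 = x.val.1
    rw [LieSLib.scale_one, Category.id_comp]))
  mul_smul b c x := LieL.ext' f G (Subtype.ext (by
    show LieS.scale B f (b * c) ≫ x.val.1 = LieS.scale B f b ≫ LieS.scale B f c ≫ x.val.1
    rw [← LieSLib.scale_scale, Category.assoc]))
  smul_zero b := LieL.ext' f G (Subtype.ext (by
    show LieS.scale B f b ≫ (1 : LieS.dpt B f ⟶ G) = 1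
    rw [MonObj.comp_one]))
  smul_add b x y := LieL.ext' f G (Subtype.ext (by
    show LieS.scale B f b ≫ (x.val.1 * y.val.1) = (LieS.scale B f b ≫ x.val.1) * (LieS.scale B f b ≫ y.val.1)
    rw [MonObj.comp_mul]))
  add_smul b c x := LieL.ext' f G (Subtype.ext (LieSLib.scale_add f G x.val.2 b c))
  zero_smul x := LieL.ext' f G (Subtype.ext (LieSLib.scale_zero_comp f G x.val.2))

noncomputable instance : LieRing (LieL f G) where
  bracket x y := LieL.mk (br f G x.val y.val)
  add_lie x y z := LieL.ext' f G (br_mul_left f G x.val y.val z.val)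
  lie_add x y z := LieL.ext' f G (br_mul_right f G x.val y.val z.val)
  lie_self x := LieL.ext' f G (br_self f G x.val)
  leibniz_lie x y z := LieL.ext' f G (by
    show br f G x.val (br f G y.val z.val) =
      br f G (br f G x.val y.val) z.val * br f G y.val (br f G x.val z.val)
    have hc := lie_comm f G
    have hj := jacobi f G x.val y.val z.val
    rw [← br_swap f G (br f G y.val z.val) x.val hc] at hj
    rw [br_swap f G (br f G x.val z.val) y.val hc]
    rw [br_swap f G x.val z.val hc, br_inv_left, inv_inv] at hj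
    rw [_root_.mul_assoc, hc, _root_.mul_assoc, hc] at hj
    rw [mul_eq_one_iff_eq_inv] at hj
    rw [← inv_inv (br f G x.val (br f G y.val z.val)), ← hj]
    group)

noncomputable instance : LieAlgebra B (LieL f G) where
  lie_smul b x y := LieL.ext' f G (br_smul_right f G b x.val y.val)

/-- The model. -/
noncomputable def model : LieS.Model G B f (LieL f G) where
  e :=
    { toFun := fun x => LieL.val (Multiplicative.toAdd x)
      invFun := fun X => Multiplicative.ofAdd (LieL.mk X)
      left_inv := fun _ => rfl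
      right_inv := fun _ => rfl
      map_mul' := fun _ _ => rfl }
  e_smul _ _ := rfl
  e_lie x y := isBracket_br f G x.val y.val

end Groth.Agent.LieBr26
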