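import Groth.Agent.LieSLib.Basic
import Groth.Agent.KerEval.Ferrand
import Mathlib.GroupTheory.Commutator.Basic

/-! Infinitesimal points `P(c, X)` of a group scheme and the existence of the bracket. -/

set_option autoImplicit false
set_option linter.style.haveILetI false
set_option backward.isDefEq.respectTransparency false
set_option backward.isDefEq.respectTransparency.types false

universe u

open CategoryTheory CategoryTheory.Limits AlgebraicGeometry MonoidalCategory CartesianMonoidalCategory MonObj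
open scoped commutatorElement

namespace Groth.Agent.LieBr26

variable {B : Type u} [CommRing B] {S : Scheme.{u}} (f : Spec (CommRingCat.of B) ⟶ S)
variable (G : Over S) [GrpObj G]
variable {C C' : Type u} [CommRing C] [CommRing C'] {h : B →+* C} {h' : B →+* C'}

/-- `Spec C` over `S` through `h : B → C`. -/
noncomputable abbrev cpt (h : B →+* C) : Over S := LieS.pt C (Spec.map (CommRingCat.ofHom h) ≫ f)

/-- Functoriality. -/
noncomputable def cmap (k : C →+* C') (hk : k.comp h = h') : cpt f h' ⟶ cpt f h :=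
  Over.homMk (Spec.map (CommRingCat.ofHom k)) (by
    show Spec.map _ ≫ Spec.map _ ≫ f = Spec.map _ ≫ f
    rw [← Category.assoc, LieS.specMap_comp, hk])

/-- The map to the dual numbers given by an element of square zero. -/
noncomputable def dmap (h : B →+* C) (c : C) (hc : c * c = 0) : cpt f h ⟶ LieS.dpt B f :=
  Over.homMk (Spec.map (CommRingCat.ofHom (LieS.dualHom h c hc))) (by
    show Spec.map _ ≫ Spec.map _ ≫ f = Spec.map _ ≫ f
    rw [← Category.assoc, LieS.specMap_comp, LieS.dualHom_comp_algebraMap])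

/-- The point `X(c)`. -/
noncomputable def P (h : B →+* C) (c : C) (hc : c * c = 0) : LieS.Lie G B f →* (cpt f h ⟶ G) :=
  ((yonedaGrpObj G).map (dmap f h c hc).op).hom.comp (LieS.Lie G B f).subtype

theorem P_apply (c : C) (hc : c * c = 0) (X : LieS.Lie G B f) : P f G h c hc X = dmap f h c hc ≫ X.1 := rfl

theorem dualHom_congr {c c' : C} (e : c = c') (hc : c * c = 0) :
    LieS.dualHom h c hc = LieS.dualHom h c' (by rw [← e]; exact hc) := by
  subst e; rfl

theorem P_congr {c c' : C} (e : c = c') (hc : c * c = 0) (X : LieS.Lie G B f) :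
    P f G h c hc X = P f G h c' (by rw [← e]; exact hc) X := by
  subst e; rfl

theorem dualHom_natural (k : C →+* C') (hk : k.comp h = h') (c : C) (hc : c * c = 0) :
    k.comp (LieS.dualHom h c hc) = LieS.dualHom h' (k c) (by rw [← map_mul, hc, map_zero]) := by
  subst hk
  exact RingHom.ext fun x => by simp

theorem cmap_P (k : C →+* C') (hk : k.comp h = h') (c : C) (hc : c * c = 0) (X : LieS.Lie G B f) :
    cmap f k hk ≫ P f G h c hc X = P f G h' (k c) (by rw [← map_mul, hc, map_zero]) X := by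
  rw [P_apply, P_apply, ← Category.assoc]
  congr 1
  refine Over.OverMorphism.ext ?_
  show Spec.map _ ≫ Spec.map _ = Spec.map _
  rw [LieS.specMap_comp, dualHom_natural k hk]

theorem mul_smul_sq (b : C) {c : C} (hc : c * c = 0) : b * c * (b * c) = 0 := by
  calc b * c * (b * c) = b * b * (c * c) := by ring
    _ = 0 := by rw [hc, mul_zero]

theorem P_smul (c : C) (hc : c * c = 0) (b : B) (X : LieS.Lie G B f) :
    P f G h c hc (b • X) = P f G h (h b * c) (mul_smul_sq (h b) hc) X := by
  rw [P_apply, P_apply, LieS.smul_val, ← Category.assoc]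
  congr 1
  refine Over.OverMorphism.ext ?_
  show Spec.map _ ≫ Spec.map _ = Spec.map _
  rw [LieS.specMap_comp]
  congr 2
  exact RingHom.ext fun x => by
    simp [LieS.scaleHom, TrivSqZeroExt.algebraMap_eq_inl']; ring

theorem P_zero (X : LieS.Lie G B f) : P f G h (0 : C) (mul_zero _) X = 1 := by
  have e : dmap f h (0 : C) (mul_zero _) =
      (Over.homMk (Spec.map (CommRingCat.ofHom h)) rfl : cpt f h ⟶ LieS.pt B f) ≫ LieS.zeroSec B f := by
    refine Over.OverMorphism.ext ?_
    show Spec.map _ = Spec.map _ ≫ Spec.map _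
    rw [LieS.specMap_comp]
    congr 2
    exact RingHom.ext fun x => by simp
  rw [P_apply, e, Category.assoc, (LieS.mem_Lie_iff G B f X.1).1 X.2, MonObj.comp_one]

/-- A retraction sending the parameter to zero makes `P` injective. -/
theorem P_injective (c : C) (hc : c * c = 0) (hinj : Function.Injective (LieS.dualHom h c hc))
    (r : C →+* B) (hr : r.comp h = RingHom.id B) (hrc : r c = 0) :
    Function.Injective (P f G h c hc) := by
  intro X Y e
  have e' : (dmap f h c hc).left ≫ X.1.left = (dmap f h c hc).left ≫ Y.1.left :=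
    congrArg CommaMorphism.left e
  refine Subtype.ext (Over.OverMorphism.ext ?_)
  refine LieSLib.hom_eq_of_injective (D := DualNumber B) (E := C) (Z := G.left) (g := X.1.left)
    (h := Y.1.left) (LieS.dualHom h c hc) hinj ?_ e'
  intro p
  obtain ⟨q, rfl⟩ := LieSLib.comap_fstHom_surjective p
  refine ⟨PrimeSpectrum.comap r q, ?_⟩
  rw [← PrimeSpectrum.comap_comp_apply]
  congr 1
  refine RingHom.ext fun x => ?_
  simpa [hrc] using RingHom.congr_fun hr x.fst

section Pair

/-- `(a, (s, t)) ↦ a + s c + t c'`. -/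
noncomputable def pairHom (h : B →+* C) (c c' : C) (hc : c * c = 0) (hc' : c' * c' = 0) (hcc : c * c' = 0) :
    TrivSqZeroExt B (B × B) →+* C where
  toFun x := h x.fst + h x.snd.1 * c + h x.snd.2 * c'
  map_one' := by simp
  map_mul' x y := by
    simp only [TrivSqZeroExt.fst_mul, TrivSqZeroExt.snd_mul, Prod.fst_add, Prod.snd_add, Prod.smul_fst,
      Prod.smul_snd, op_smul_eq_smul, smul_eq_mul, map_add, map_mul]
    linear_combination (-(h x.snd.1 * h y.snd.1)) * hc + (-(h x.snd.2 * h y.snd.2)) * hc' +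
      (-(h x.snd.1 * h y.snd.2 + h x.snd.2 * h y.snd.1)) * hcc
  map_zero' := by simp
  map_add' x y := by
    simp only [TrivSqZeroExt.fst_add, TrivSqZeroExt.snd_add, Prod.fst_add, Prod.snd_add, map_add]
    ring

/-- `Spec (B ⊕ B²)` with its base map. -/
noncomputable abbrev hPair : B →+* TrivSqZeroExt B (B × B) := algebraMap B _

/-- The first parameter. -/
noncomputable abbrev η₁ : TrivSqZeroExt B (B × B) := TrivSqZeroExt.inr (1, 0)

/-- The second parameter. -/
noncomputable abbrev η₂ : TrivSqZeroExt B (B × B) := TrivSqZeroExt.inr (0, 1)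

theorem inr_sq (m m' : B × B) :
    (TrivSqZeroExt.inr m : TrivSqZeroExt B (B × B)) * TrivSqZeroExt.inr m' = 0 := TrivSqZeroExt.inr_mul_inr ..

theorem pairHom_comp (h : B →+* C) (c c' : C) (hc : c * c = 0) (hc' : c' * c' = 0) (hcc : c * c' = 0) :
    (pairHom h c c' hc hc' hcc).comp hPair = h :=
  RingHom.ext fun b => by simp [pairHom, TrivSqZeroExt.algebraMap_eq_inl']

theorem fst_comp : (TrivSqZeroExt.map (LinearMap.fst B B B)).toRingHom.comp (hPair (B := B)) =
    algebraMap B (DualNumber B) := AlgHom.comp_algebraMap (TrivSqZeroExt.map (LinearMap.fst B B B))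

theorem snd_comp : (TrivSqZeroExt.map (LinearMap.snd B B B)).toRingHom.comp (hPair (B := B)) =
    algebraMap B (DualNumber B) := AlgHom.comp_algebraMap (TrivSqZeroExt.map (LinearMap.snd B B B))

theorem pair_ext {g g' : cpt f (hPair (B := B)) ⟶ G}
    (e₁ : cmap f (TrivSqZeroExt.map (LinearMap.fst B B B)).toRingHom fst_comp ≫ g =
      cmap f (TrivSqZeroExt.map (LinearMap.fst B B B)).toRingHom fst_comp ≫ g')
    (e₂ : cmap f (TrivSqZeroExt.map (LinearMap.snd B B B)).toRingHom snd_comp ≫ g =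
      cmap f (TrivSqZeroExt.map (LinearMap.snd B B B)).toRingHom snd_comp ≫ g') : g = g' :=
  LieSLib.tpt_hom_ext f e₁ e₂

theorem commute_P (c c' : C) (hc : c * c = 0) (hc' : c' * c' = 0) (hcc : c * c' = 0) (X Y : LieS.Lie G B f) :
    Commute (P f G h c hc X) (P f G h c' hc' Y) := by
  have key : P f G hPair η₁ (inr_sq _ _) X * P f G hPair η₂ (inr_sq _ _) Y =
      P f G hPair η₂ (inr_sq _ _) Y * P f G hPair η₁ (inr_sq _ _) X := by
    refine pair_ext f G ?_ ?_
    · simp only [MonObj.comp_mul, cmap_P]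
      have : (TrivSqZeroExt.map (LinearMap.fst B B B)).toRingHom η₂ = 0 := by simp [η₂]
      rw [P_congr f G this, P_zero, _root_.mul_one, _root_.one_mul]
    · simp only [MonObj.comp_mul, cmap_P]
      have : (TrivSqZeroExt.map (LinearMap.snd B B B)).toRingHom η₁ = 0 := by simp [η₁]
      rw [P_congr f G this, P_zero, _root_.mul_one, _root_.one_mul]
  have := congrArg (fun t => cmap f (pairHom h c c' hc hc' hcc) (pairHom_comp h c c' hc hc' hcc) ≫ t) key
  simp only [MonObj.comp_mul, cmap_P] at this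
  have h1 : pairHom h c c' hc hc' hcc η₁ = c := by simp [pairHom, η₁]
  have h2 : pairHom h c c' hc hc' hcc η₂ = c' := by simp [pairHom, η₂]
  rw [P_congr f G h1, P_congr f G h2] at this
  exact this

end Pair

section Bracket

/-- `ε` in `B[ε][ε']`. -/
noncomputable abbrev eA : LieS.D2 B := algebraMap (DualNumber B) (LieS.D2 B) DualNumber.eps

/-- `ε'` in `B[ε][ε']`. -/
noncomputable abbrev eB : LieS.D2 B := DualNumber.eps

theorem prod_sq {a b : C} (ha : a * a = 0) : a * b * (a * b) = 0 := by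
  rw [_root_.mul_mul_mul_comm, ha, zero_mul]

/-- Square zero, in generic ring language. -/
abbrev Sq0 {R : Type u} [CommRing R] (c : R) : Prop := c * c = 0

theorem eA_sq : Sq0 (eA : LieS.D2 B) := by
  show algebraMap (DualNumber B) (LieS.D2 B) _ * algebraMap (DualNumber B) (LieS.D2 B) _ = 0
  rw [← map_mul, LieS.eps_sq, map_zero]

theorem eB_sq : Sq0 (eB : LieS.D2 B) := LieS.eps_sq _

/-- `εε'`. -/
noncomputable abbrev eAB : LieS.D2 B := eA * eB

theorem eAB_sq : Sq0 (eAB : LieS.D2 B) := prod_sq eA_sq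

/-- `B[ε][ε'] → B ⊕ B²`, killing `εε'`. -/
noncomputable def pHom : LieS.D2 B →+* TrivSqZeroExt B (B × B) :=
  LieS.dualHom (LieS.dualHom hPair η₁ (inr_sq _ _)) η₂ (inr_sq _ _)

theorem pHom_eq (x : LieS.D2 B) :
    pHom x = TrivSqZeroExt.inl x.fst.fst + TrivSqZeroExt.inr (x.fst.snd, x.snd.fst) := by
  refine TrivSqZeroExt.ext ?_ (Prod.ext ?_ ?_) <;>
    simp [pHom, hPair, η₁, η₂, TrivSqZeroExt.algebraMap_eq_inl']

theorem pHom_surjective : Function.Surjective (pHom (B := B)) := fun y => by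
  refine ⟨TrivSqZeroExt.inl (TrivSqZeroExt.inl y.fst + TrivSqZeroExt.inr y.snd.1) +
    TrivSqZeroExt.inr (TrivSqZeroExt.inl y.snd.2), ?_⟩
  rw [pHom_eq]
  refine TrivSqZeroExt.ext ?_ (Prod.ext ?_ ?_) <;> simp

theorem pHom_comp : (pHom (B := B)).comp (LieS.toD2 B) = hPair :=
  RingHom.ext fun b => by
    rw [RingHom.comp_apply, pHom_eq]
    refine TrivSqZeroExt.ext ?_ (Prod.ext ?_ ?_) <;>
      simp [LieS.toD2, TrivSqZeroExt.algebraMap_eq_inl']

theorem pHom_eA : pHom (eA : LieS.D2 B) = η₁ := by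
  rw [pHom_eq]
  refine TrivSqZeroExt.ext ?_ (Prod.ext ?_ ?_) <;> simp [eA, η₁, TrivSqZeroExt.algebraMap_eq_inl']

theorem pHom_eB : pHom (eB : LieS.D2 B) = η₂ := by
  rw [pHom_eq]
  refine TrivSqZeroExt.ext ?_ (Prod.ext ?_ ?_) <;> simp [eB, η₂, TrivSqZeroExt.algebraMap_eq_inl']

/-- `B[η]` as the fibre product of `B[ε][ε']` and `B` over `B ⊕ B²`. -/
noncomputable def bracketSq : KerEval.Sq (DualNumber B) B (LieS.D2 B) (TrivSqZeroExt B (B × B)) where
  f := (TrivSqZeroExt.fstHom B B B).toRingHom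
  g := LieS.mulHom B
  q := hPair
  p := pHom
  surj := pHom_surjective
  comm c := by
    rw [pHom_eq]
    refine TrivSqZeroExt.ext ?_ (Prod.ext ?_ ?_) <;>
      simp [LieS.mulHom, LieS.toD2, hPair, TrivSqZeroExt.algebraMap_eq_inl']
  exist a b hab := by
    rw [pHom_eq] at hab
    have h1 : a = b.fst.fst := by simpa [hPair, TrivSqZeroExt.algebraMap_eq_inl'] using congrArg TrivSqZeroExt.fst hab
    have h2 : b.fst.snd = 0 := by
      simpa [hPair, TrivSqZeroExt.algebraMap_eq_inl', eq_comm] using congrArg (fun t => t.snd.1) hab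
    have h3 : b.snd.fst = 0 := by
      simpa [hPair, TrivSqZeroExt.algebraMap_eq_inl', eq_comm] using congrArg (fun t => t.snd.2) hab
    refine ⟨TrivSqZeroExt.inl a + TrivSqZeroExt.inr b.snd.snd, by simp, ?_⟩
    refine TrivSqZeroExt.ext (TrivSqZeroExt.ext ?_ ?_) (TrivSqZeroExt.ext ?_ ?_) <;>
      simp [LieS.mulHom, LieS.toD2, TrivSqZeroExt.algebraMap_eq_inl', h1, h2, h3]
  ext c c' h1 h2 := by
    refine TrivSqZeroExt.ext (by simpa using h1) ?_
    simpa [LieS.mulHom, LieS.toD2, TrivSqZeroExt.algebraMap_eq_inl'] using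
      congrArg (fun t : LieS.D2 B => t.snd.snd) h2

theorem exists_bracket (X Y : LieS.Lie G B f) :
    ∃ Z : LieS.Lie G B f, P f G (LieS.toD2 B) eAB eAB_sq Z =
      ⁅P f G (LieS.toD2 B) eB eB_sq X, P f G (LieS.toD2 B) eA eA_sq Y⁆ := by
  let g := ⁅P f G (LieS.toD2 B) eB eB_sq X, P f G (LieS.toD2 B) eA eA_sq Y⁆
  have hg : cmap f pHom pHom_comp ≫ g = 1 := by
    simp only [g, commutatorElement_def, MonObj.comp_mul, GrpObj.comp_inv, cmap_P]
    rw [P_congr f G pHom_eB, P_congr f G pHom_eA]
    have := (commute_P f G (h := hPair) η₂ η₁ (inr_sq _ _) (inr_sq _ _) (inr_sq _ _) X Y).eq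
    rw [this, mul_inv_cancel_right, mul_inv_cancel]
  let e : LieS.pt B f ⟶ G := 1
  have hq : (1 : cpt f (hPair (B := B)) ⟶ G) =
      (Over.homMk (Spec.map (CommRingCat.ofHom hPair)) rfl : cpt f (hPair (B := B)) ⟶ LieS.pt B f) ≫ e := by
    rw [MonObj.comp_one]
  obtain ⟨m, hm₁, hm₂⟩ := (bracketSq (B := B)).exists_hom e.left g.left
    ((congrArg CommaMorphism.left (hg.trans hq)).symm)
  have hw : m ≫ G.hom = Spec.map (CommRingCat.ofHom (algebraMap B (DualNumber B))) ≫ f := by
    refine (bracketSq (B := B)).hom_ext _ _ ?_ ?_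
    · rw [← Category.assoc, hm₁, Over.w, KerEval.sp, ← Category.assoc, LieS.specMap_comp]
      show f = Spec.map (CommRingCat.ofHom _) ≫ f
      rw [show (bracketSq (B := B)).f.comp (algebraMap B (DualNumber B)) = RingHom.id B from
        LieS.fstHom_comp_algebraMap B, CommRingCat.ofHom_id]
      exact ((congrArg (· ≫ f) (Spec.map_id _)).trans (Category.id_comp f)).symm
    · rw [← Category.assoc, hm₂, Over.w, KerEval.sp, ← Category.assoc, LieS.specMap_comp]
      show Spec.map _ ≫ f = Spec.map _ ≫ f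
      rw [show (bracketSq (B := B)).g.comp (algebraMap B (DualNumber B)) = LieS.toD2 B from
        LieS.mulHom_comp_algebraMap B]
  let Z : LieS.dpt B f ⟶ G := Over.homMk m hw
  refine ⟨⟨Z, Over.OverMorphism.ext hm₁⟩, Over.OverMorphism.ext ?_⟩
  exact hm₂

/-- The bracket. -/
noncomputable def br (X Y : LieS.Lie G B f) : LieS.Lie G B f := (exists_bracket f G X Y).choose

/-- The bracket is read off from any pair of parameters of square zero. -/
theorem commutator_P (c d : C) (hc : c * c = 0) (hd : d * d = 0) (X Y : LieS.Lie G B f) :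
    ⁅P f G h c hc X, P f G h d hd Y⁆ = P f G h (c * d) (prod_sq hc) (br f G X Y) := by
  let k : LieS.D2 B →+* C := LieS.dualHom (LieS.dualHom h d hd) c hc
  have hk : k.comp (LieS.toD2 B) = h := RingHom.ext fun b => by
    simp [k, LieS.toD2, TrivSqZeroExt.algebraMap_eq_inl']
  have kA : k eA = d := by simp [k, eA, TrivSqZeroExt.algebraMap_eq_inl']
  have kB : k eB = c := by simp [k, eB, TrivSqZeroExt.algebraMap_eq_inl']
  have := congrArg (fun t => cmap f k hk ≫ t) (exists_bracket f G X Y).choose_spec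
  simp only [commutatorElement_def, MonObj.comp_mul, GrpObj.comp_inv, cmap_P] at this
  rw [P_congr f G kA, P_congr f G kB, P_congr f G (show k eAB = c * d by rw [eAB, map_mul, kA, kB, mul_comm])] at this
  exact this.symm

theorem dualHom_eAB_injective :
    Function.Injective (LieS.dualHom (LieS.toD2 B) eAB eAB_sq) := by
  intro a b hab
  have h₁ := congrArg (fun w : LieS.D2 B => w.fst.fst) hab
  have h₂ := congrArg (fun w : LieS.D2 B => w.snd.snd) hab
  simp [LieS.toD2, eAB, eA, eB, TrivSqZeroExt.algebraMap_eq_inl'] at h₁ h₂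
  exact TrivSqZeroExt.ext h₁ h₂

theorem P_eAB_injective : Function.Injective (P f G (LieS.toD2 B) eAB eAB_sq) :=
  P_injective f G _ _ dualHom_eAB_injective
    ((TrivSqZeroExt.fstHom B B B).toRingHom.comp
      (TrivSqZeroExt.fstHom (DualNumber B) (DualNumber B) (DualNumber B)).toRingHom)
    (RingHom.ext fun b => by simp [LieS.toD2, TrivSqZeroExt.algebraMap_eq_inl'])
    (by simp [eAB, eA, eB, TrivSqZeroExt.algebraMap_eq_inl'])

/-- The comparison of the two spellings of `Spec B[ε][ε']`; the identity is written out explicitly. -/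
noncomputable def d2map : LieS.d2pt B f ⟶ cpt f (C := LieS.D2 B) (LieS.toD2 B) :=
  Over.homMk (𝟙 (Spec (CommRingCat.of (LieS.D2 B)))) (by
    change 𝟙 (Spec (CommRingCat.of (LieS.D2 B))) ≫ Spec.map _ ≫ f = Spec.map _ ≫ Spec.map _ ≫ f
    rw [Category.id_comp, ← Category.assoc, LieS.specMap_comp])

/-- `ε ↦ εε'`. -/
noncomputable def dM := dmap f (C := LieS.D2 B) (LieS.toD2 B) eAB eAB_sq

/-- `ε ↦ ε'`. -/
noncomputable def dX := dmap f (C := LieS.D2 B) (LieS.toD2 B) eB eB_sq

/-- `ε ↦ ε`. -/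
noncomputable def dY := dmap f (C := LieS.D2 B) (LieS.toD2 B) eA eA_sq

theorem dY_hom : LieS.dualHom (LieS.toD2 B) eA eA_sq = algebraMap (DualNumber B) (LieS.D2 B) := by
  refine RingHom.ext fun x => TrivSqZeroExt.ext (TrivSqZeroExt.ext ?_ ?_) (TrivSqZeroExt.ext ?_ ?_) <;>
    simp [eA, LieS.toD2, TrivSqZeroExt.algebraMap_eq_inl']

theorem d2map_left : (d2map f).left = 𝟙 (Spec (CommRingCat.of (LieS.D2 B))) := rfl

theorem mulMap_left : (LieS.mulMap B f).left = Spec.map (CommRingCat.ofHom (LieS.mulHom B)) := rfl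

theorem dM_left : (dM f).left = Spec.map (CommRingCat.ofHom (LieS.mulHom B)) := rfl

theorem dptMap_left : (LieS.dptMap f (algebraMap B (DualNumber B))).left =
    Spec.map (CommRingCat.ofHom (LieS.bcHom (algebraMap B (DualNumber B)))) := rfl

theorem dX_left : (dX f).left =
    Spec.map (CommRingCat.ofHom (LieS.bcHom (algebraMap B (DualNumber B)))) := rfl

theorem proj_left : (LieS.proj (DualNumber B) (LieS.dpt B f).hom).left =
    Spec.map (CommRingCat.ofHom (algebraMap (DualNumber B) (LieS.D2 B))) := rfl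

theorem dY_left : (dY f).left =
    Spec.map (CommRingCat.ofHom (LieS.dualHom (LieS.toD2 B) eA eA_sq)) := rfl

theorem d2map_mulMap : d2map f ≫ dM f = LieS.mulMap B f := by
  refine Over.OverMorphism.ext ?_
  rw [Over.comp_left, d2map_left, mulMap_left, dM_left]
  exact Category.id_comp _

theorem d2map_dptMap : d2map f ≫ dX f = LieS.dptMap f (algebraMap B (DualNumber B)) := by
  refine Over.OverMorphism.ext ?_
  rw [Over.comp_left, d2map_left, dX_left, dptMap_left]
  exact Category.id_comp _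

theorem d2map_proj : d2map f ≫ dY f = LieS.proj (DualNumber B) (LieS.dpt B f).hom := by
  refine Over.OverMorphism.ext ?_
  rw [Over.comp_left, d2map_left, dY_left, proj_left, dY_hom]
  exact Category.id_comp _

theorem br_spec (X Y : LieS.Lie G B f) :
    dM f ≫ (br f G X Y).1 = ⁅dX f ≫ X.1, dY f ≫ Y.1⁆ := (exists_bracket f G X Y).choose_spec

theorem comm_pullback {W W' Z : Over S} (jj : W ⟶ W') {mM mX mY : W' ⟶ Z} {nM nX nY : W ⟶ Z}
    (eM : jj ≫ mM = nM) (eX : jj ≫ mX = nX) (eY : jj ≫ mY = nY) (x y z : Z ⟶ G)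
    (he : mM ≫ z = ⁅mX ≫ x, mY ≫ y⁆) :
    nM ≫ z = (nX ≫ x) * (nY ≫ y) * (nX ≫ x)⁻¹ * (nY ≫ y)⁻¹ := by
  subst eM eX eY
  rw [Category.assoc, he, commutatorElement_def]
  simp only [MonObj.comp_mul, GrpObj.comp_inv, Category.assoc]

theorem isBracket_br (X Y : LieS.Lie G B f) : LieS.IsBracket G B f X Y (br f G X Y) :=
  comm_pullback G (d2map f) (d2map_mulMap f) (d2map_dptMap f) (d2map_proj f) X.1 Y.1 (br f G X Y).1
    (br_spec f G X Y)

end Bracket

end Groth.Agent.LieBr26
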